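import Cfsg.Agent.Lib.H17.G24POrd.Lv5StepsA
import Cfsg.Agent.Lib.H17.G24POrd.Lv5Rows

set_option autoImplicit false
set_option maxRecDepth 100000

/-! # Bound for the relative index, G24POrd Lv5 (generated) -/

namespace Cfsg.Agent.Lib.H17.G24POrd.Lv5

open Cfsg.Spor Cfsg.Agent.Lib.H17.CosetCert Cfsg.Agent.Lib.H17.CoxGlue Cfsg.Agent.Lib.H17.G24PGlue Cfsg.Agent.Lib.H17.SubChain Cfsg.Agent.Lib.H17.G24POrd

theorem bound : Bound words 5 280 := by
  intro G' _ Q' _ _ γ' hinv q0 hOK hgen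
  have h0 := inv_zero F 5 γ' q0
  have h1 := checkSteps_sound F 5 16777216 γ' hinv q0 words hOK steps0 0 1 437 h0 chk0
  rw [len0] at h1
  have := card_le F 5 16777216 γ' hinv q0 1189 437 h1 rows mask mask_ok mask_zero rows_ok hgen
  rw [rows_length] at this
  exact this

/-- the relative index of the subgroup on the first 4 letters in that on the first 5 -/
theorem level : (K γo 4).relIndex (K γo 5) ≠ 0 ∧ (K γo 4).relIndex (K γo 5) ≤ 280 := by
  apply SubChain.level γo γo_mul_self words 5 4 280 bound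
  intro v hv
  obtain ⟨h1, h2, h3⟩ := words_spec v hv
  refine ⟨h1, fun hr => rel_trivial v.1 (h2 hr), fun hr => ?_⟩
  obtain ⟨x, hx, hvx⟩ := h3 hr
  rw [hvx]
  simpa using mem_K γo hx

end Cfsg.Agent.Lib.H17.G24POrd.Lv5
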